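import Cfsg.Agent.Helper19.Twist.TorusD4
import Cfsg.Agent.Helper18.InvOdd.CentDecomp
import Cfsg.Agent.Helper18.ScalarExt

/-!
helper40, S2376 (`³D₄(q)` has a self-centralising cyclic subgroup of order `(q³ - 1)(q + 1)`): definitions.

Root indices of `D₄` (helper19's `coordD4`): `18 = p₁`, `14 = p₂` (central node), `13 = p₃`, `12 = p₄`; `9 = -p₂`,
`16 = p₂ + p₃`, `15 = p₂ + p₄`, `19 = p₁ + p₂`, `17 = p₂ + p₃ + p₄`, `23` the highest root.
-/

set_option autoImplicit false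
set_option maxRecDepth 100000

namespace Cfsg.Agent.Helper40.D4Tor

open Cfsg Cfsg.Lie Cfsg.Agent.Helper18 Cfsg.Agent.Helper19.Twist

variable {K : Type*} [Field K]

/-- `h_{p₁}(t) h_{p₃}(t') h_{p₄}(t'')` -/
noncomputable def T (t t' t'' : K) : GL chevD4.Idx K :=
  hG chevD4 K 18 t * hG chevD4 K 13 t' * hG chevD4 K 12 t''

/-- the generator of the torus: `h_{p₁}(t) h_{p₃}(t^q) h_{p₄}(t^{q²}) x_{p₂}(1) x_{-p₂}(v)` -/
noncomputable def sElt (f : K ≃+* K) (t v : K) : GL chevD4.Idx K :=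
  T t (f t) (f (f t)) * xGL chevD4 K 14 1 * xGL chevD4 K 9 v

/-- the conjugating element `x_{-p₂}(a) x_{p₂}(b)` -/
noncomputable def g0 (a b : K) : GL chevD4.Idx K := xGL chevD4 K 9 a * xGL chevD4 K 14 b

/-- the split torus element `h_{p₂}(β) h_{p₁}(t) h_{p₃}(t^q) h_{p₄}(t^{q²})` -/
noncomputable def hp (f : K ≃+* K) (t β : K) : GL chevD4.Idx K := hG chevD4 K 14 β * T t (f t) (f (f t))

/-- the diagonal entry at the root `r` -/
noncomputable def ent (k : GL chevD4.Idx K) (r : ℕ) : K := rootEntry chevD4 (k : Matrix chevD4.Idx chevD4.Idx K) r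

/-- the exponents: an element `k` of the twisted torus has `ent k r = (ent k 18) ^ E q r` -/
def E (q : ℤ) (r : ℕ) : ℤ :=
  coordD4 r 0 + coordD4 r 1 * (q ^ 3 - 1) + coordD4 r 2 * (1 + q - q ^ 3) + coordD4 r 3 * q ^ 2

/-- the order of the torus -/
def Nq (q : ℕ) : ℕ := (q ^ 3 - 1) * (q + 1)

end Cfsg.Agent.Helper40.D4Tor
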