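import Cfsg.Agent.Helper40.D4Tor.Defs

/-!
helper40, S2376: (MEM) the generator lies in `³D₄(q)`.
-/

set_option autoImplicit false
set_option maxRecDepth 100000

namespace Cfsg.Agent.Helper40.D4Tor.Mem

open Cfsg Cfsg.Lie Cfsg.Agent.Helper18 Cfsg.Agent.Helper19.Twist Cfsg.Agent.Helper40.D4Tor

/-- (MEM) -/
theorem sElt_mem {K : Type*} [Field K] {q : ℕ} (f : K ≃+* K) (hf : ∀ t, f t = t ^ q) (t v : K) (hv : f v = v) :
    sElt f t v ∈ twistedD4 K q := by
  unfold sElt T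
  exact mul_mem (mul_mem (hJD4_mem f hf t) (x2pD4_mem f hf 1 (map_one f))) (x2mD4_mem f hf v hv)

end Cfsg.Agent.Helper40.D4Tor.Mem
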