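import Cfsg.Agent.Helper40.D4Tor.Defs
import Cfsg.Agent.Helper53.D4TorFLD
import Cfsg.Agent.Helper41.D4TorMAP
import Cfsg.Agent.Helper55.D4TorFIXMAP
import Cfsg.Agent.Helper33.D4TorSIG0
import Cfsg.Agent.Helper33.D4TorENT
import Cfsg.Agent.Helper10.D4TorORD
import Cfsg.Agent.Helper50.D4TorWEYLFIX
import Cfsg.Agent.Helper50.D4TorCKU
import Cfsg.Agent.Helper93.D4TorDISTB
import Cfsg.Agent.Helper93.D4TorCKN
import Cfsg.Agent.Helper12.D4TorDISTA
import Cfsg.Agent.Helper12.D4TorTW2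
import Cfsg.Agent.Helper41.D4TorCONJ
import Cfsg.Agent.Helper53.D4TorTW1
import Cfsg.Agent.Helper40.D4Tor.Mem

/-!
helper40, S2376: assembly.
-/

set_option autoImplicit false
set_option maxRecDepth 100000

namespace Cfsg.Agent.Helper40.D4Tor

open Cfsg Cfsg.Lie Cfsg.Agent.Helper18 Cfsg.Agent.Helper19.Twist
open Cfsg.Agent.Helper53.D4Tor Cfsg.Agent.Helper41.D4Tor Cfsg.Agent.Helper55.D4Tor Cfsg.Agent.Helper33.D4Tor
  Cfsg.Agent.Helper10.D4Tor Cfsg.Agent.Helper50.D4Tor Cfsg.Agent.Helper93.D4Tor Cfsg.Agent.Helper12.D4Tor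
  Cfsg.Agent.Helper40.D4Tor.Mem

/-- (KEX2) a quadratic extension of a finite field, in `Type` -/
theorem exists_quadratic_ext (F : Type*) [Field F] [Fintype F] :
    ∃ (K : Type) (_ : Field K) (_ : Fintype K) (_ : Algebra F K), Fintype.card K = Fintype.card F ^ 2 := by
  obtain ⟨p, hp⟩ := CharP.exists F
  have hpp : p.Prime := CharP.char_is_prime F p
  have : Fact p.Prime := ⟨hpp⟩
  refine ⟨FiniteField.Extension F p 2, inferInstance, Fintype.ofFinite _, inferInstance, ?_⟩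
  rw [Fintype.card_eq_nat_card, Fintype.card_eq_nat_card, FiniteField.natCard_extension]

section Split

variable {K : Type*} [Field K]

/-- (CK) the centraliser of a regular element of the split torus -/
theorem cent_regular (τ : GL chevD4.Idx K) (hτ : τ ∈ chevD4.diagonalSubgroup K)
    (hne : ∀ r < 24, ent τ r ≠ 1)
    (hB : ∀ b ∈ [18, 16, 12, 19], ∀ r < 24, ent τ r = ent τ b → r = b)
    (g : GL chevD4.Idx K) (hg : g ∈ chevD4.group K) (hc : g * τ = τ * g) :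
    g ∈ chevD4.diagonalSubgroup K := by
  obtain ⟨u₁, hu₁, h, hh, n, hn, u, hu, rfl, hcu₁, hcn, hcu⟩ :=
    Cfsg.Agent.Helper18.InvOdd.cent_decomp chevD4 memD4 τ hτ g hg hc
  have hu' : u ∈ chevD4.posUnipotent K := Cfsg.Agent.Helper36.bruhatU_le_pos chevD4 n hu
  have e1 : u₁ = 1 := ck_unip τ hτ hne u₁ hu₁ hcu₁
  have e2 : u = 1 := ck_unip τ hτ hne u hu' hcu
  have e3 : n ∈ chevD4.diagonalSubgroup K := ck_mono τ hτ hB n hn hcn
  rw [e1, e2, one_mul, mul_one]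
  exact mul_mem hh e3

/-- the twisted torus: elements of `H` fixed by `n⁻¹ σ(·) n`, `n = n_{p₂}(c)` -/
def InZ (f : K ≃+* K) (c : K) (k : GL chevD4.Idx K) : Prop :=
  k ∈ chevD4.diagonalSubgroup K ∧ sigD4 f k = (nG chevD4 K 14 c)⁻¹ * k * nG chevD4 K 14 c

theorem Z_entries (q : ℕ) (hq : 2 ≤ q) (f : K ≃+* K) (hf : ∀ x, f x = x ^ q) (c : K) (hc : c ≠ 0)
    (k : GL chevD4.Idx K) (hk : InZ f c k) :
    ent k 18 ^ ((q ^ 3 - 1) * (q + 1)) = 1 ∧ ∀ r < 24, ent k r = ent k 18 ^ E q r := by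
  obtain ⟨h1, h3, h4, h2⟩ := twist_rel q f hf c hc k hk.1 hk.2
  exact twist_entries q hq k hk.1 h1 h3 h4 h2

theorem simple_D4 : ∀ i < chevD4.rank, chevD4.simple i < 24 := by decide

/-- an element of the twisted torus is determined by its entry at `p₁` -/
theorem Z_ext (q : ℕ) (hq : 2 ≤ q) (f : K ≃+* K) (hf : ∀ x, f x = x ^ q) (c : K) (hc : c ≠ 0)
    (k k' : GL chevD4.Idx K) (hk : InZ f c k) (hk' : InZ f c k') (h : ent k 18 = ent k' 18) : k = k' := by
  obtain ⟨-, e⟩ := Z_entries q hq f hf c hc k hk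
  obtain ⟨-, e'⟩ := Z_entries q hq f hf c hc k' hk'
  apply diag_ext chevD4 memD4 coordD4 coordOK_D4 k k' hk.1 hk'.1
  intro i hi
  have h1 := e _ (simple_D4 i hi)
  have h2 := e' _ (simple_D4 i hi)
  unfold ent at h1 h2 h
  rw [h1, h2, h]

theorem ent_ne_zero (k : GL chevD4.Idx K) (hk : k ∈ chevD4.diagonalSubgroup K) (r : ℕ) : ent k r ≠ 0 :=
  rootEntry_ne_zero chevD4 memD4 k hk r

/-- a generator of the twisted torus is regular, with trivial stabiliser in the Weyl group -/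
theorem regular_of_Z (q : ℕ) (hq : 2 ≤ q) (f : K ≃+* K) (hf : ∀ x, f x = x ^ q) (c : K) (hc : c ≠ 0)
    (k : GL chevD4.Idx K) (hk : InZ f c k) (hord : orderOf k = (q ^ 3 - 1) * (q + 1)) :
    (∀ r < 24, ent k r ≠ 1) ∧ (∀ b ∈ [18, 16, 12, 19], ∀ r < 24, ent k r = ent k b → r = b) := by
  obtain ⟨hN, e⟩ := Z_entries q hq f hf c hc k hk
  have ha : ent k 18 ≠ 0 := ent_ne_zero k hk.1 18
  set au : Kˣ := Units.mk0 (ent k 18) ha with hau
  have hauN : au ^ ((q ^ 3 - 1) * (q + 1)) = 1 := by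
    apply Units.ext
    rw [Units.val_pow_eq_pow_val, Units.val_one]
    exact hN
  -- the order of `au` is `N`
  have hordau : orderOf au = (q ^ 3 - 1) * (q + 1) := by
    apply Nat.dvd_antisymm (orderOf_dvd_of_pow_eq_one hauN)
    rw [← hord]
    apply orderOf_dvd_of_pow_eq_one
    apply eq_one_of_ent _ (pow_mem hk.1 _)
    intro r hr
    rw [ent_pow k hk.1, e r hr]
    have h1 : ent k 18 = ((au : Kˣ) : K) := rfl
    rw [h1, ← Units.val_zpow_eq_zpow_val, ← Units.val_pow_eq_pow_val, ← zpow_natCast, ← zpow_mul, mul_comm, zpow_mul,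
      zpow_natCast, pow_orderOf_eq_one, one_zpow, Units.val_one]
  have key : ∀ m : ℤ, ent k 18 ^ m = 1 → (((q ^ 3 - 1) * (q + 1) : ℕ) : ℤ) ∣ m := by
    intro m hm
    rw [← hordau]
    apply orderOf_dvd_iff_zpow_eq_one.mpr
    apply Units.ext
    rw [Units.val_zpow_eq_zpow_val, Units.val_one]
    exact hm
  constructor
  · intro r hr h1
    rw [e r hr] at h1
    exact E_ne q hq r hr (key _ h1)
  · intro b hb r hr h1
    have hb24 : b < 24 := by
      simp only [List.mem_cons, List.not_mem_nil, or_false] at hb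
      rcases hb with rfl | rfl | rfl | rfl <;> norm_num
    rw [e r hr, e b hb24] at h1
    apply E_inj q hq b hb r hr
    apply key
    rw [zpow_sub₀ ha, h1, div_self (zpow_ne_zero _ ha)]

end Split

/-- `³D₄(q) ≤ D₄(K)` (copy of helper19's `genSubgroup_le_group`) -/
theorem twisted_le_group {F : Type*} [Field F] (q : ℕ) : twistedD4 F q ≤ chevD4.group F := by
  unfold twistedD4 ChevalleyDatum.genSubgroup
  rw [Subgroup.closure_le]
  rintro g ⟨w, -, hg⟩
  have e : g = wordGL chevD4 F w := Units.ext (by rw [hg, wordGL_val chevD4 _ (triOK_of_mem chevD4 memD4)])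
  rw [e, SetLike.mem_coe]
  unfold wordGL
  apply Subgroup.list_prod_mem
  intro x hx
  obtain ⟨p, -, rfl⟩ := List.mem_map.mp hx
  exact xGL_mem_group' chevD4 memD4 p.1 p.2

section Descent

variable {K K' : Type*} [Field K] [Fintype K] [Field K'] [Fintype K']

/-- the map `c ↦ g₀⁻¹ φ(c) g₀` -/
noncomputable def kHom (φ : K →+* K') (g₀ : GL chevD4.Idx K') : GL chevD4.Idx K →* GL chevD4.Idx K' :=
  (MulAut.conj g₀⁻¹).toMonoidHom.comp (Matrix.GeneralLinearGroup.map φ)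

theorem kHom_apply (φ : K →+* K') (g₀ : GL chevD4.Idx K') (c : GL chevD4.Idx K) :
    kHom φ g₀ c = g₀⁻¹ * Matrix.GeneralLinearGroup.map φ c * g₀ := by
  unfold kHom
  rw [MonoidHom.comp_apply]
  show g₀⁻¹ * _ * g₀⁻¹⁻¹ = _
  rw [inv_inv]

theorem kHom_injective (φ : K →+* K') (g₀ : GL chevD4.Idx K') : Function.Injective (kHom φ g₀) := by
  unfold kHom
  intro a b h
  apply gmap_injective φ
  exact (MulAut.conj g₀⁻¹).injective h

/-- the whole descent, from the parameters -/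
theorem core (q : ℕ) (hq : IsPrimePow q) (hK : Fintype.card K = q ^ 3) (hK' : Fintype.card K' = q ^ 6)
    (φ : K →+* K') (f : K ≃+* K) (hf : ∀ x, f x = x ^ q) (f' : K' ≃+* K') (hf' : ∀ x, f' x = x ^ q)
    (t v : K) (β : K') (hv : v ^ q = v) (hot : orderOf (φ t) = q ^ 3 - 1) (hoβ : orderOf β = q ^ 2 - 1)
    (hβ2 : β ^ (q ^ 2) = β) (hβq : β ^ q ≠ β) (hN : β ^ (q + 1) = (φ t) ^ (1 + q + q ^ 2))
    (hφv : φ v = β + β ^ q - 1 - β ^ (q + 1)) :
    sElt f t v ∈ twistedD4 K q ∧ orderOf (sElt f t v) = (q ^ 3 - 1) * (q + 1) ∧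
      ∃ (Z : Set K') (ι : GL chevD4.Idx K → K'), (∀ x ∈ Z, x ^ ((q ^ 3 - 1) * (q + 1)) = 1) ∧
        (∀ c ∈ twistedD4 K q, c * sElt f t v = sElt f t v * c → ι c ∈ Z) ∧
        (∀ c ∈ twistedD4 K q, ∀ c' ∈ twistedD4 K q, c * sElt f t v = sElt f t v * c →
          c' * sElt f t v = sElt f t v * c' → ι c = ι c' → c = c') := by
  have hq2 : 2 ≤ q := hq.two_le
  have hq3 : 0 < q ^ 3 - 1 := by
    have : 2 ^ 3 ≤ q ^ 3 := Nat.pow_le_pow_left hq2 3
    omega
  have hq21 : 0 < q ^ 2 - 1 := by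
    have : 2 ^ 2 ≤ q ^ 2 := Nat.pow_le_pow_left hq2 2
    omega
  -- basic facts
  set τ₁ := φ t with hτ₁
  set γ := β ^ q with hγ
  have hτ0 : τ₁ ≠ 0 := by
    intro h0
    rw [h0, orderOf_zero] at hot
    omega
  have hβ0 : β ≠ 0 := by
    intro h0
    rw [h0, orderOf_zero] at hoβ
    omega
  have hγ0 : γ ≠ 0 := pow_ne_zero _ hβ0
  have hf'β : f' β = γ := hf' β
  have hf'γ : f' γ = β := by rw [hf', hγ, ← pow_mul, ← pow_two]; exact hβ2
  have hφf : ∀ x, f' (φ x) = φ (f x) := by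
    intro x
    rw [hf', hf, map_pow]
  have hfv : f v = v := by rw [hf]; exact hv
  have hf'τ : f' τ₁ = τ₁ ^ q := hf' τ₁
  have hf'τ2 : f' (f' τ₁) = τ₁ ^ q ^ 2 := by rw [hf', hf', ← pow_mul, ← pow_two]
  have hτq0 : τ₁ ^ q ≠ 0 := pow_ne_zero _ hτ0
  have hτq20 : τ₁ ^ q ^ 2 ≠ 0 := pow_ne_zero _ hτ0
  -- membership
  have hs : sElt f t v ∈ twistedD4 K q := sElt_mem f hf t v hfv
  -- the objects over `K'`
  set a := β * γ - γ with ha
  set b := (γ - β)⁻¹ with hb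
  have hγβ : γ - β ≠ 0 := sub_ne_zero.mpr hβq
  have hb0 : b ≠ 0 := inv_ne_zero hγβ
  set g₀ := g0 a b with hg₀
  set h' := hG chevD4 K' 14 β * T τ₁ (τ₁ ^ q) (τ₁ ^ q ^ 2) with hh'
  set n := nG chevD4 K' 14 (-b) with hn
  set S := Matrix.GeneralLinearGroup.map φ (sElt f t v) with hS
  have hSe : S = T τ₁ (τ₁ ^ q) (τ₁ ^ q ^ 2) * xGL chevD4 K' 14 1 * xGL chevD4 K' 9 (β + γ - 1 - β * γ) := by
    rw [hS, gmap_sElt φ f f' hφf t v]
    unfold sElt
    rw [← hτ₁, hf'τ2, hf'τ, hφv]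
    congr 2
    rw [hγ, pow_succ']
  have hNN : β * γ = τ₁ * τ₁ ^ q * τ₁ ^ q ^ 2 := by
    have : β * γ = β ^ (q + 1) := by rw [hγ, pow_succ']
    rw [this, hN, pow_add, pow_add, pow_one]
  -- (CONJ)
  have hconj : S * g₀ = g₀ * h' := by
    rw [hSe]
    exact conj_eq τ₁ (τ₁ ^ q) (τ₁ ^ q ^ 2) β γ hτ0 hτq0 hτq20 hβ0 hγ0 hβq hNN
  -- (SIG0)
  have hsig : sigD4 f' g₀ = g₀ * n := by
    apply sig_g0 f' a b hb0
    · rw [ha, map_sub, map_mul, hf'β, hf'γ, hb, inv_inv]; ring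
    · rw [hb, map_inv₀, map_sub, hf'β, hf'γ, ← neg_sub, neg_inv]
  have hg₀G : g₀ ∈ chevD4.group K' := mul_mem (xGL_mem_group' chevD4 memD4 _ _) (xGL_mem_group' chevD4 memD4 _ _)
  have hh'H : h' ∈ chevD4.diagonalSubgroup K' := hT_mem β τ₁ _ _ hβ0 hτ0 hτq0 hτq20
  have hordh' : orderOf h' = (q ^ 3 - 1) * (q + 1) := orderOf_hT q hq2 β τ₁ hot hoβ
  have hnb0 : -b ≠ 0 := neg_ne_zero.mpr hb0
  -- the twist relation for `k = g₀⁻¹ φ(c) g₀`
  have htw : ∀ c ∈ twistedD4 K q, sigD4 f' (kHom φ g₀ c) = n⁻¹ * kHom φ g₀ c * n := by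
    intro c hc
    have hfix : sigD4 f' (Matrix.GeneralLinearGroup.map φ c) = Matrix.GeneralLinearGroup.map φ c :=
      (mem_FixD4 f' _).mp (gmap_mem_Fix q hK φ f' hf' c hc)
    rw [kHom_apply, map_mul, map_mul, map_inv, hsig, hfix]
    group
  -- `k_s = h'`
  have hks : kHom φ g₀ (sElt f t v) = h' := by
    rw [kHom_apply, ← hS, mul_assoc, hconj]
    group
  have hZh' : InZ f' (-b) h' := ⟨hh'H, by rw [← hks]; exact htw _ hs⟩
  obtain ⟨hne, hB⟩ := regular_of_Z q hq2 f' hf' (-b) hnb0 h' hZh' hordh'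
  -- `k_c ∈ Z` for `c` in the centraliser
  have hkZ : ∀ c ∈ twistedD4 K q, c * sElt f t v = sElt f t v * c → InZ f' (-b) (kHom φ g₀ c) := by
    intro c hc hcs
    refine ⟨?_, htw c hc⟩
    apply cent_regular h' hh'H hne hB
    · rw [kHom_apply]
      have hcG : Matrix.GeneralLinearGroup.map φ c ∈ chevD4.group K' :=
        gmap_mem_group φ c (twisted_le_group q hc)
      exact mul_mem (mul_mem (inv_mem hg₀G) hcG) hg₀G
    · rw [← hks, ← map_mul, ← map_mul, hcs]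
  refine ⟨hs, ?_, ?_⟩
  · rw [← orderOf_injective (kHom φ g₀) (kHom_injective φ g₀), hks, hordh']
  · refine ⟨{x | x ^ ((q ^ 3 - 1) * (q + 1)) = 1}, fun c => ent (kHom φ g₀ c) 18, fun x hx => hx, ?_, ?_⟩
    · intro c hc hcs
      exact (Z_entries q hq2 f' hf' (-b) hnb0 _ (hkZ c hc hcs)).1
    · intro c hc c' hc' hcs hcs' he
      apply kHom_injective φ g₀
      exact Z_ext q hq2 f' hf' (-b) hnb0 _ _ (hkZ c hc hcs) (hkZ c' hc' hcs') he

end Descent

/-- S2376 -/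
theorem main {K : Type*} [Field K] [Fintype K] (q : ℕ) (hq : IsPrimePow q) (hK : Fintype.card K = q ^ 3) :
    ∃ H : Subgroup ↥(Cfsg.Lie.twistedD4 K q), IsCyclic ↥H ∧ Nat.card ↥H = (q ^ 3 - 1) * (q + 1) ∧
      Subgroup.centralizer (H : Set ↥(Cfsg.Lie.twistedD4 K q)) = H := by
  classical
  obtain ⟨f, hf⟩ := exists_frob hq hK
  obtain ⟨K', _, _, _, hK'⟩ := exists_quadratic_ext K
  have hK'6 : Fintype.card K' = q ^ 6 := by rw [hK', hK]; ring
  obtain ⟨f', hf'⟩ := exists_frob hq hK'6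
  obtain ⟨t, v, β, hv, hot, hoβ, hβ2, hβq, hN, hφv⟩ := exists_params q hq hK hK'6 (algebraMap K K')
  obtain ⟨hs, hord, Z, ι, hZ, hι, hinj⟩ :=
    core q hq hK hK'6 (algebraMap K K') f hf f' hf' t v β hv hot hoβ hβ2 hβq hN hφv
  have hq2 : 2 ≤ q := hq.two_le
  have hNpos : 0 < (q ^ 3 - 1) * (q + 1) := by
    have : 2 ^ 3 ≤ q ^ 3 := Nat.pow_le_pow_left hq2 3
    apply Nat.mul_pos <;> omega
  set x₀ : ↥(twistedD4 K q) := ⟨sElt f t v, hs⟩ with hx₀
  have hordx : orderOf x₀ = (q ^ 3 - 1) * (q + 1) := by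
    rw [← hord, ← Subgroup.orderOf_coe]
  refine ⟨Subgroup.zpowers x₀, inferInstance, ?_, ?_⟩
  · rw [Nat.card_zpowers, hordx]
  · have hle : Subgroup.zpowers x₀ ≤ Subgroup.centralizer (Subgroup.zpowers x₀ : Set ↥(twistedD4 K q)) := by
      intro y hy
      rw [Subgroup.mem_centralizer_iff]
      intro z hz
      obtain ⟨i, rfl⟩ := Subgroup.mem_zpowers_iff.mp hy
      obtain ⟨j, rfl⟩ := Subgroup.mem_zpowers_iff.mp hz
      exact (Commute.zpow_zpow_self x₀ j i).eq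
    have hcomm : ∀ c ∈ Subgroup.centralizer (Subgroup.zpowers x₀ : Set ↥(twistedD4 K q)),
        (c : GL chevD4.Idx K) * sElt f t v = sElt f t v * (c : GL chevD4.Idx K) := by
      intro c hc
      have h1 := (Subgroup.mem_centralizer_iff.mp hc) x₀ (Subgroup.mem_zpowers x₀)
      have h2 := congrArg (Subtype.val) h1
      simpa [hx₀] using h2.symm
    -- the injection into the roots of unity
    have hcard : Nat.card (Subgroup.centralizer (Subgroup.zpowers x₀ : Set ↥(twistedD4 K q))) ≤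
        (q ^ 3 - 1) * (q + 1) := by
      let R := Polynomial.nthRootsFinset ((q ^ 3 - 1) * (q + 1)) (1 : K')
      let j : ↥(Subgroup.centralizer (Subgroup.zpowers x₀ : Set ↥(twistedD4 K q))) → ↥R := fun c =>
        ⟨ι ((c : ↥(twistedD4 K q)) : GL chevD4.Idx K), by
          rw [Polynomial.mem_nthRootsFinset hNpos]
          exact hZ _ (hι _ (c : ↥(twistedD4 K q)).2 (hcomm _ c.2))⟩
      have hj : Function.Injective j := by
        intro c c' h
        have h1 : ι ((c : ↥(twistedD4 K q)) : GL chevD4.Idx K) = ι ((c' : ↥(twistedD4 K q)) : GL chevD4.Idx K) :=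
          congrArg Subtype.val h
        have h2 := hinj _ (c : ↥(twistedD4 K q)).2 _ (c' : ↥(twistedD4 K q)).2 (hcomm _ c.2) (hcomm _ c'.2) h1
        exact Subtype.ext (Subtype.ext h2)
      calc Nat.card (Subgroup.centralizer (Subgroup.zpowers x₀ : Set ↥(twistedD4 K q)))
          ≤ Nat.card ↥R := Nat.card_le_card_of_injective j hj
        _ = R.card := by rw [Nat.card_eq_fintype_card, Fintype.card_coe]
        _ ≤ (q ^ 3 - 1) * (q + 1) := by
            have := Polynomial.card_nthRoots ((q ^ 3 - 1) * (q + 1)) (1 : K')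
            exact le_trans (Multiset.toFinset_card_le _) this
    have hfin : Finite ↥(Subgroup.centralizer (Subgroup.zpowers x₀ : Set ↥(twistedD4 K q))) := inferInstance
    refine (Subgroup.eq_of_le_of_card_ge hle ?_).symm
    rw [Nat.card_zpowers, hordx]
    exact hcard

end Cfsg.Agent.Helper40.D4Tor
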